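import Groth.Agent.S3362
import Groth.Agent.PunctDimLib.Basic
import Groth.Agent.AdicFSLib.BaseChange
import Groth.Agent.DimOneDvr.Complete
import Groth.Agent.CommAlgDim.Integral

/-!
# Linear sections of punctured spectra of complete local domains are connected
-/

set_option autoImplicit false
set_option linter.style.haveILetI false

universe u

open Topology TopologicalSpace PrimeSpectrum IsLocalRing AlgebraicGeometry CategoryTheory

namespace PunctSectLib

/-- The points of the punctured spectrum at which all given elements vanish. -/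
def sect {C : Type u} [CommRing C] [IsLocalRing C] {k : ℕ} (f : Fin k → C) : Set (PrimeSpectrum C) :=
  {x | x ≠ closedPoint C ∧ ∀ i, f i ∈ x.asIdeal}

theorem isConnected_sect (C : Type u) [CommRing C] [IsDomain C] [IsNoetherianRing C] [IsLocalRing C]
    [IsAdicComplete (maximalIdeal C) C] {k : ℕ} (hdim : ((k + 2 : ℕ) : WithBot ℕ∞) ≤ ringKrullDim C)
    (f : Fin k → C) (hf : ∀ i, f i ∈ maximalIdeal C) : _root_.IsConnected (sect f) := by
  have hc : closedPoint C ∈ (Set.univ : Set (PrimeSpectrum C)) := trivial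
  have hd : ((k + 1 : ℕ) : WithBot ℕ∞) ≤ topologicalKrullDim (PunctDimLib.punct C) := by
    have h : ((k + 1 + 1 : ℕ) : WithBot ℕ∞) ≤ topologicalKrullDim (Set.univ : Set (PrimeSpectrum C)) := by
      rw [(Homeomorph.Set.univ _).isHomeomorph.topologicalKrullDim_eq,
        PrimeSpectrum.topologicalKrullDim_eq_ringKrullDim]
      exact hdim
    have h2 := (PunctDimLib.le_dim_iff isClosed_univ hc (k + 1)).1 h
    rw [Set.preimage_univ, (Homeomorph.Set.univ _).isHomeomorph.topologicalKrullDim_eq] at h2
    exact h2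
  have hne : (PunctDimLib.punct C).Nonempty := by
    by_contra h
    haveI : IsEmpty (PunctDimLib.punct C) := Set.isEmpty_coe_sort.2 (Set.not_nonempty_iff_eq_empty.1 h)
    haveI : IsEmpty (TopologicalSpace.IrreducibleCloseds (PunctDimLib.punct C)) :=
      ⟨fun s => s.2.1.elim fun x _ => IsEmpty.false x⟩
    rw [topologicalKrullDim, Order.krullDim_eq_bot] at hd
    exact absurd hd (not_le.2 (WithBot.bot_lt_coe _))
  haveI : PreirreducibleSpace (PunctDimLib.punct C) := by
    refine ⟨?_⟩
    rw [← Set.preimage_univ (f := (Subtype.val : PunctDimLib.punct C → PrimeSpectrum C))]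
    exact (PreirreducibleSpace.isPreirreducible_univ (X := PrimeSpectrum C)).preimage
      (IsLocalRing.isClosed_singleton_closedPoint (R := C)).isOpen_compl.isOpenEmbedding_subtypeVal
  haveI : Nonempty (PunctDimLib.punct C) := hne.to_subtype
  haveI : IrreducibleSpace (PunctDimLib.punct C) := ⟨inferInstance⟩
  have hirr : ∀ W : Set (PunctDimLib.punct C), IsClosed W → W ≠ Set.univ → _root_.IsConnected Wᶜ := fun W hW h =>
    (IsIrreducible.isConnected ⟨Set.nonempty_compl.2 h,
      (PreirreducibleSpace.isPreirreducible_univ (X := PunctDimLib.punct C)).open_subset hW.isOpen_compl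
        (Set.subset_univ _)⟩)
  rcases Nat.eq_zero_or_pos k with rfl | hk
  · have e : sect f = PunctDimLib.punct C := Set.ext fun x => ⟨fun h => h.1, fun h => ⟨h, fun i => i.elim0⟩⟩
    rw [e, isConnected_iff_connectedSpace]
    infer_instance
  haveI : IsLocalRing (C ⧸ Ideal.span (Set.range f)) := by
    haveI : Nontrivial (C ⧸ Ideal.span (Set.range f)) := Ideal.Quotient.nontrivial_iff.2
      (ne_top_of_le_ne_top (IsLocalRing.maximalIdeal.isMaximal C).ne_top
        (Ideal.span_le.2 (by rintro _ ⟨i, rfl⟩; exact hf i)))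
    exact IsLocalRing.of_surjective' _ Ideal.Quotient.mk_surjective
  let B := C ⧸ Ideal.span (Set.range f)
  have h := (Groth.Agent.S3362.result C k hk
    (fun Z hZ => by
      have hu : Z = Set.univ := by
        change Z ∈ irreducibleComponents (PunctDimLib.punct C) at hZ
        rw [irreducibleComponents_eq_singleton] at hZ
        exact hZ
      subst hu
      show _ ≤ topologicalKrullDim (Set.univ : Set (PunctDimLib.punct C))
      rw [(Homeomorph.Set.univ _).isHomeomorph.topologicalKrullDim_eq]
      exact hd)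
    (fun W hW hdW => hirr W hW fun hu => by
      subst hu
      have hdW' : topologicalKrullDim (Set.univ : Set (PunctDimLib.punct C)) < (k : WithBot ℕ∞) := hdW
      rw [(Homeomorph.Set.univ _).isHomeomorph.topologicalKrullDim_eq] at hdW'
      exact absurd (hd.trans_lt hdW') (not_lt.2 (Nat.cast_le.2 (Nat.le_succ k))))
    k le_rfl f hf).2
  have h0 : _root_.IsConnected (Set.univ : Set (PunctDimLib.punct B)) := by
    have := h (∅ : Set _) isClosed_empty (by
      haveI : IsEmpty (TopologicalSpace.IrreducibleCloseds (∅ : Set (PunctDimLib.punct B))) :=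
        ⟨fun s => s.2.1.elim fun x _ => x.2⟩
      show topologicalKrullDim (∅ : Set (PunctDimLib.punct B)) < _
      rw [topologicalKrullDim, Order.krullDim_eq_bot]
      exact WithBot.bot_lt_coe _)
    rw [Set.compl_empty] at this
    exact this
  have e : sect f = (fun x : PunctDimLib.punct B => PrimeSpectrum.comap (Ideal.Quotient.mk (Ideal.span (Set.range f))) x.1) ''
      Set.univ := by
    haveI : IsLocalHom (Ideal.Quotient.mk (Ideal.span (Set.range f))) :=
      IsLocalHom.of_surjective _ Ideal.Quotient.mk_surjective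
    have hcl := IsLocalRing.comap_closedPoint (Ideal.Quotient.mk (Ideal.span (Set.range f)))
    ext x
    constructor
    · rintro ⟨hx, hxf⟩
      have hx' : x ∈ Set.range (PrimeSpectrum.comap (Ideal.Quotient.mk (Ideal.span (Set.range f)))) := by
        rw [range_comap_of_surjective _ _ Ideal.Quotient.mk_surjective, Ideal.mk_ker,
          PrimeSpectrum.mem_zeroLocus]
        exact Ideal.span_le.2 (by rintro _ ⟨i, rfl⟩; exact hxf i)
      obtain ⟨y, rfl⟩ := hx'
      exact ⟨⟨y, fun hy : y = closedPoint B => hx (hy ▸ hcl)⟩, trivial, rfl⟩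
    · rintro ⟨⟨y, hy⟩, -, rfl⟩
      refine ⟨fun h => hy (PrimeSpectrum.comap_injective_of_surjective _ Ideal.Quotient.mk_surjective
        (h.trans hcl.symm)), fun i => ?_⟩
      show Ideal.Quotient.mk _ (f i) ∈ y.asIdeal
      rw [Ideal.Quotient.eq_zero_iff_mem.2 (Ideal.subset_span (Set.mem_range_self i) : f i ∈ Ideal.span (Set.range f))]
      exact zero_mem _
  rw [e]
  exact h0.image _ ((PrimeSpectrum.continuous_comap _).comp continuous_subtype_val).continuousOn

variable (A : Type u) [CommRing A] [IsDomain A] [IsNoetherianRing A] [IsLocalRing A]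
  [IsAdicComplete (maximalIdeal A) A] {k : ℕ} (hdim : ((k + 2 : ℕ) : WithBot ℕ∞) ≤ ringKrullDim A)
  (f : Fin k → A) (hf : ∀ i, f i ∈ maximalIdeal A) (B : Type u) [CommRing B] [Algebra A B] [Module.Finite A B]

include hdim hf in
/-- The trace of a linear section on a component of a finite algebra. -/
theorem isConnected_component (P : Ideal B) [P.IsPrime] (hP : P.comap (algebraMap A B) = ⊥) :
    _root_.IsConnected {y : PrimeSpectrum B | P ≤ y.asIdeal ∧
      y.asIdeal.comap (algebraMap A B) ≠ maximalIdeal A ∧ ∀ i, algebraMap A B (f i) ∈ y.asIdeal} := by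
  haveI : Module.Finite A (B ⧸ P) := Module.Finite.of_surjective (Ideal.Quotient.mkₐ A P).toLinearMap
    Ideal.Quotient.mk_surjective
  haveI : IsLocalRing (B ⧸ P) := DimOneDvr.isLocalRing_of_finite_domain (A := A)
  haveI : IsNoetherianRing (B ⧸ P) := IsNoetherianRing.of_finite A _
  haveI : IsAdicComplete (maximalIdeal (B ⧸ P)) (B ⧸ P) := AdicFSLib.isAdicComplete_of_finite_local A _
  have hinj : Function.Injective (algebraMap A (B ⧸ P)) := by
    refine (injective_iff_map_eq_zero _).2 fun a ha => ?_
    rw [IsScalarTower.algebraMap_apply A B (B ⧸ P), Ideal.Quotient.algebraMap_eq, Ideal.Quotient.eq_zero_iff_mem,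
      ← Ideal.mem_comap, hP] at ha
    exact ha
  have hmax : ∀ q : PrimeSpectrum (B ⧸ P),
      q.asIdeal.comap (algebraMap A (B ⧸ P)) = maximalIdeal A ↔ q = closedPoint (B ⧸ P) := fun q => by
    constructor
    · intro h
      refine PrimeSpectrum.ext (IsLocalRing.eq_maximalIdeal ?_)
      exact Ideal.isMaximal_of_isIntegral_of_isMaximal_comap _ (h ▸ IsLocalRing.maximalIdeal.isMaximal A)
    · rintro rfl
      haveI : (closedPoint (B ⧸ P)).asIdeal.IsMaximal := IsLocalRing.maximalIdeal.isMaximal _
      exact IsLocalRing.eq_maximalIdeal (Ideal.isMaximal_comap_of_isIntegral_of_isMaximal _)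
  have hconn := isConnected_sect (B ⧸ P) (hdim.trans (CommAlgDim.ringKrullDim_eq_of_integral A (B ⧸ P) hinj).ge)
    (fun i => algebraMap A (B ⧸ P) (f i)) fun i => by
      have := (hmax (closedPoint (B ⧸ P))).2 rfl
      exact Ideal.mem_comap.1 (this.symm ▸ hf i : f i ∈ (closedPoint (B ⧸ P)).asIdeal.comap _)
  have e : {y : PrimeSpectrum B | P ≤ y.asIdeal ∧ y.asIdeal.comap (algebraMap A B) ≠ maximalIdeal A ∧
      ∀ i, algebraMap A B (f i) ∈ y.asIdeal} =
      PrimeSpectrum.comap (Ideal.Quotient.mk P) '' sect (fun i => algebraMap A (B ⧸ P) (f i)) := by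
    ext y
    constructor
    · rintro ⟨hy, hy1, hy2⟩
      have hy' : y ∈ Set.range (PrimeSpectrum.comap (Ideal.Quotient.mk P)) := by
        rw [range_comap_of_surjective _ _ Ideal.Quotient.mk_surjective, Ideal.mk_ker,
          PrimeSpectrum.mem_zeroLocus]
        exact hy
      obtain ⟨q, rfl⟩ := hy'
      refine ⟨q, ⟨fun hq => hy1 ?_, fun i => hy2 i⟩, rfl⟩
      exact (hmax q).2 hq
    · rintro ⟨q, ⟨hq1, hq2⟩, rfl⟩
      refine ⟨fun b hb => ?_, fun h => hq1 ((hmax q).1 h), fun i => hq2 i⟩
      show Ideal.Quotient.mk P b ∈ q.asIdeal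
      rw [Ideal.Quotient.eq_zero_iff_mem.2 hb]
      exact zero_mem _
  rw [e]
  exact hconn.image _ (PrimeSpectrum.continuous_comap _).continuousOn

end PunctSectLib
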