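import Groth.Agent.PunctSectLib.Connected
import Groth.Agent.ClopenFFLib.Normal
import Groth.Agent.BlowRegLib.FinExtend
import Groth.Agent.FinEtNeronLib.Main
import Groth.Agent.NormBlowLib.Base

/-!
# Fundamental groups of linear sections of punctured spectra
-/

set_option autoImplicit false
set_option linter.style.haveILetI false

universe u

open CategoryTheory CategoryTheory.Limits AlgebraicGeometry TopologicalSpace IsLocalRing

noncomputable section

namespace PunctSectLib

variable (A : Type u) [CommRing A] [IsDomain A] [IsNoetherianRing A] [IsLocalRing A] [IsIntegrallyClosed A]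
  [IsAdicComplete (maximalIdeal A) A] {k : ℕ} (hdim : ((k + 2 : ℕ) : WithBot ℕ∞) ≤ ringKrullDim A)
  (f : Fin k → A) (hf : ∀ i, f i ∈ maximalIdeal A)

/-- The section of the punctured spectrum cut out by the elements. -/
abbrev sectIdeal : (FEt.puncturedSpec A : Scheme.{u}).IdealSheafData :=
  (Spec.map (CommRingCat.ofHom (Ideal.Quotient.mk (Ideal.span (Set.range f))))).ker.comap (FEt.puncturedSpec A).ι

omit [IsDomain A] [IsNoetherianRing A] [IsIntegrallyClosed A] [IsAdicComplete (maximalIdeal A) A] in
theorem mem_support_iff (u : (FEt.puncturedSpec A : Scheme.{u})) :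
    u ∈ (sectIdeal A f).support ↔ ∀ i, f i ∈ ((FEt.puncturedSpec A).ι u : PrimeSpectrum A).asIdeal := by
  haveI : IsClosedImmersion (Spec.map (CommRingCat.ofHom (Ideal.Quotient.mk (Ideal.span (Set.range f))))) :=
    IsClosedImmersion.spec_of_surjective _ Ideal.Quotient.mk_surjective
  rw [Scheme.IdealSheafData.support_comap]
  show (FEt.puncturedSpec A).ι u ∈
    ((Spec.map (CommRingCat.ofHom (Ideal.Quotient.mk (Ideal.span (Set.range f))))).ker.support : Set _) ↔ _
  rw [Scheme.Hom.support_ker]
  show (FEt.puncturedSpec A).ι u ∈ closure (Set.range (Spec.map (CommRingCat.ofHom (Ideal.Quotient.mk (Ideal.span (Set.range f)))))) ↔ _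
  rw [(Scheme.Hom.isClosedEmbedding _).isClosed_range.closure_eq]
  show ((FEt.puncturedSpec A).ι u : PrimeSpectrum A) ∈
    Set.range (PrimeSpectrum.comap (Ideal.Quotient.mk (Ideal.span (Set.range f)))) ↔ _
  rw [range_comap_of_surjective _ _ Ideal.Quotient.mk_surjective, Ideal.mk_ker]
  refine (PrimeSpectrum.mem_zeroLocus ((FEt.puncturedSpec A).ι u : PrimeSpectrum A) _).trans ?_
  rw [SetLike.coe_subset_coe, Ideal.span_le, Set.range_subset_iff]
  rfl

include hdim hf in
theorem full_faithful :
    (FEt.restrict (sectIdeal A f).subschemeι).Full ∧ (FEt.restrict (sectIdeal A f).subschemeι).Faithful := by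
  let U := FEt.puncturedSpec A
  haveI : Nonempty ↥(U : Scheme.{u}) := by
    obtain ⟨x, hx⟩ := (isConnected_sect A hdim f hf).nonempty
    exact ⟨⟨x, hx.1⟩⟩
  haveI : IsIntegral (U : Scheme.{u}) := isIntegral_of_isOpenImmersion U.ι
  have hX : Pi1.IsNormalScheme (U : Scheme.{u}) :=
    NormBlowLib.isNormalScheme_open (FinEtNeronLib.isNormalScheme_spec A fun p hp =>
      ⟨inferInstance, isIntegrallyClosed_of_isLocalization (Localization.AtPrime p) p.primeCompl p.primeCompl_le_nonZeroDivisors⟩) U
  refine ClopenFFLib.full_faithful _ (ClopenFFLib.clopenBij_of_components hX _ fun Y W hW => ?_)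
  haveI : IsFinite (show Y.left ⟶ (U : Scheme.{u}) from Y.hom) := Y.prop.1
  haveI : Etale (show Y.left ⟶ (U : Scheme.{u}) from Y.hom) := Y.prop.2
  let g : Y.left ⟶ (U : Scheme.{u}) := Y.hom
  have hUc : IsCompact (U : Set (Spec (CommRingCat.of A))) :=
    TopologicalSpace.NoetherianSpace.isCompact _
  obtain ⟨B, _, _, j, _, hsq⟩ := BlowRegLib.exists_finite_extension A U hUc Y.left g
  haveI : IsOpenImmersion j := MorphismProperty.of_isPullback hsq.flip inferInstance
  have hjU : ∀ y : Y.left, ((U.ι (g y) : PrimeSpectrum A)) = PrimeSpectrum.comap (algebraMap A B) (j y) := fun y =>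
    (congr($(hsq.w) y)).symm
  have hjrange : Set.range j = PrimeSpectrum.comap (algebraMap A B) ⁻¹' (U : Set (Spec (CommRingCat.of A))) := by
    ext z
    constructor
    · rintro ⟨y, rfl⟩
      show PrimeSpectrum.comap (algebraMap A B) (j y) ∈ (U : Set (Spec (CommRingCat.of A)))
      rw [← hjU]
      exact (g y).2
    · intro hz
      obtain ⟨p, hp, -⟩ := Scheme.exists_preimage_of_isPullback hsq z
        (⟨_, hz⟩ : (U : Scheme.{u})) rfl
      exact ⟨p, hp⟩
  obtain ⟨ξ, hξ, hgξ⟩ := ClopenFFLib.exists_generic g hW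
  let P : PrimeSpectrum B := j ξ
  have hP : P.asIdeal.comap (algebraMap A B) = ⊥ := by
    show (PrimeSpectrum.comap (algebraMap A B) (j ξ)).asIdeal = ⊥
    rw [← hjU, hgξ, genericPoint_eq_of_isOpenImmersion U.ι, genericPoint_eq_bot_of_affine]
    rfl
  have hWj : ∀ y : Y.left, y ∈ W ↔ P.asIdeal ≤ (j y : PrimeSpectrum B).asIdeal := fun y => by
    rw [← hξ, ← specializes_iff_mem_closure, ← j.isOpenEmbedding.isInducing.specializes_iff]
    exact (PrimeSpectrum.le_iff_specializes P (j y)).symm
  have hfst : Set.range (pullback.fst Y.hom (sectIdeal A f).subschemeι) = g ⁻¹' ((sectIdeal A f).support : Set _) := by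
    rw [Scheme.Pullback.range_fst, Scheme.IdealSheafData.range_subschemeι]
  have himg : j '' (W ∩ Set.range (pullback.fst Y.hom (sectIdeal A f).subschemeι)) =
      {y : PrimeSpectrum B | P.asIdeal ≤ y.asIdeal ∧ y.asIdeal.comap (algebraMap A B) ≠ maximalIdeal A ∧
        ∀ i, algebraMap A B (f i) ∈ y.asIdeal} := by
    rw [hfst]
    ext z
    constructor
    · rintro ⟨y, ⟨hyW, hyS⟩, rfl⟩
      refine ⟨(hWj y).1 hyW, fun h => (g y).2 ((hjU y).trans (PrimeSpectrum.ext h)), fun i => ?_⟩
      have h := (mem_support_iff A f (g y)).1 hyS i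
      rw [hjU y] at h
      exact h
    · rintro ⟨hz1, hz2, hz3⟩
      have hzU : z ∈ Set.range j := by
        rw [hjrange]
        exact fun h => hz2 (congrArg PrimeSpectrum.asIdeal h)
      obtain ⟨y, rfl⟩ := hzU
      refine ⟨y, ⟨(hWj y).2 hz1, (mem_support_iff A f (g y)).2 fun i => ?_⟩, rfl⟩
      rw [hjU y]
      exact hz3 i
  have hconn : _root_.IsConnected (j '' (W ∩ Set.range (pullback.fst Y.hom (sectIdeal A f).subschemeι))) := by
    rw [himg]
    exact isConnected_component A hdim f hf B P.asIdeal hP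
  rw [← Set.image_preimage_eq_inter_range, Set.image_image] at hconn
  haveI : IsClosedImmersion (pullback.fst Y.hom (sectIdeal A f).subschemeι) :=
    MorphismProperty.of_isPullback (P := @IsClosedImmersion) (IsPullback.of_hasPullback Y.hom (sectIdeal A f).subschemeι).flip inferInstance
  exact ⟨hconn.nonempty.of_image,
    ((j.isOpenEmbedding.isInducing.comp (Scheme.Hom.isEmbedding
      (pullback.fst Y.hom (sectIdeal A f).subschemeι)).isInducing).isPreconnected_image).1 hconn.isPreconnected⟩

omit [IsIntegrallyClosed A] in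
include hdim hf in
theorem connectedSpace : ConnectedSpace ↥(sectIdeal A f).subscheme := by
  let ι := (sectIdeal A f).subschemeι
  have e : (fun x => ((FEt.puncturedSpec A).ι (ι x) : PrimeSpectrum A)) '' Set.univ = sect f := by
    ext z
    constructor
    · rintro ⟨x, -, rfl⟩
      refine ⟨(ι x).2, (mem_support_iff A f _).1 ?_⟩
      exact (Scheme.IdealSheafData.range_subschemeι (sectIdeal A f)).le ⟨x, rfl⟩
    · rintro ⟨hz, hzf⟩
      obtain ⟨x, hx⟩ := (Scheme.IdealSheafData.range_subschemeι (sectIdeal A f)).ge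
        ((mem_support_iff A f (⟨z, hz⟩ : (FEt.puncturedSpec A : Scheme.{u}))).2 hzf)
      exact ⟨x, trivial, congrArg (fun t : (FEt.puncturedSpec A : Scheme.{u}) => ((FEt.puncturedSpec A).ι t : PrimeSpectrum A)) hx⟩
  have h := isConnected_sect A hdim f hf
  rw [← e] at h
  rw [connectedSpace_iff_univ]
  exact ⟨h.nonempty.of_image, (((FEt.puncturedSpec A).ι.isOpenEmbedding.isInducing.comp
    (Scheme.Hom.isEmbedding ι).isInducing).isPreconnected_image).1 h.isPreconnected⟩

end PunctSectLib

end
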